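import Cfsg.Agent.Lib.SmallSimple.Below1092.Tools
import Cfsg.Agent.Lib.SmallCofactor.Square

/-!
# The orders 420, 600, 780, 792, 840, 924, 936, 1020
-/

set_option autoImplicit false
set_option linter.style.haveILetI false
set_option linter.unusedSectionVars false

namespace Cfsg.Agent.SmallSimple.Below1092

open Subgroup

universe u

variable {G : Type u} [Group G] [Finite G] [IsSimpleGroup G]

theorem card_ne_420 (hG : ¬ IsMulCommutative G) : Nat.card G ≠ 420 := by
  intro hn
  haveI : Fact (Nat.Prime 7) := ⟨by norm_num⟩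
  obtain ⟨P, d, hd, hP, hmem, hmul, hNC⟩ := sylow_data hG (p := 7) (m := 60) hn (by norm_num)
  rw [show (60 : ℕ).divisors.filter (fun d => d % 7 = 1 ∧ 5 ≤ d) = {15} by decide +kernel,
    Finset.mem_singleton] at hmem
  subst hmem
  rw [show Nat.card (normalizer ((P : Subgroup G) : Set G)) = 28 by omega] at hNC
  exact false_of_few_orbits hG P hP (by decide) (k := 2) le_rfl hd Nat.prime_two (by norm_num) (by omega)

theorem card_ne_600 (hG : ¬ IsMulCommutative G) : Nat.card G ≠ 600 :=
  haveI := Fintype.ofFinite G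
  SmallCofactor.card_ne_of_square hG (r := 5) (b := 3) (by norm_num) (by norm_num) (by norm_num)
    (by norm_num)

theorem card_ne_780 (hG : ¬ IsMulCommutative G) : Nat.card G ≠ 780 := by
  intro hn
  haveI : Fact (Nat.Prime 13) := ⟨by norm_num⟩
  obtain ⟨P, d, -, -, hmem, -, -⟩ := sylow_data hG (p := 13) (m := 60) hn (by norm_num)
  rw [show (60 : ℕ).divisors.filter (fun d => d % 13 = 1 ∧ 5 ≤ d) = ∅ by decide +kernel] at hmem
  exact Finset.notMem_empty d hmem

theorem card_ne_936 (hG : ¬ IsMulCommutative G) : Nat.card G ≠ 936 := by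
  intro hn
  haveI : Fact (Nat.Prime 13) := ⟨by norm_num⟩
  obtain ⟨P, d, -, -, hmem, -, -⟩ := sylow_data hG (p := 13) (m := 72) hn (by norm_num)
  rw [show (72 : ℕ).divisors.filter (fun d => d % 13 = 1 ∧ 5 ≤ d) = ∅ by decide +kernel] at hmem
  exact Finset.notMem_empty d hmem

theorem card_ne_1020 (hG : ¬ IsMulCommutative G) : Nat.card G ≠ 1020 := by
  intro hn
  haveI : Fact (Nat.Prime 17) := ⟨by norm_num⟩
  obtain ⟨P, d, -, -, hmem, -, -⟩ := sylow_data hG (p := 17) (m := 60) hn (by norm_num)
  rw [show (60 : ℕ).divisors.filter (fun d => d % 17 = 1 ∧ 5 ≤ d) = ∅ by decide +kernel] at hmem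
  exact Finset.notMem_empty d hmem

theorem card_ne_792 (hG : ¬ IsMulCommutative G) : Nat.card G ≠ 792 := by
  intro hn
  haveI : Fact (Nat.Prime 11) := ⟨by norm_num⟩
  obtain ⟨P, d, hd, hP, hmem, hmul, hNC⟩ := sylow_data hG (p := 11) (m := 72) hn (by norm_num)
  rw [show (72 : ℕ).divisors.filter (fun d => d % 11 = 1 ∧ 5 ≤ d) = {12} by decide +kernel,
    Finset.mem_singleton] at hmem
  subst hmem
  rw [show Nat.card (normalizer ((P : Subgroup G) : Set G)) = 66 by omega] at hNC
  exact false_of_few_orbits hG P hP (by decide) (k := 1) (by norm_num) hd Nat.prime_three (by norm_num)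
    (by omega)

theorem card_ne_924 (hG : ¬ IsMulCommutative G) : Nat.card G ≠ 924 := by
  intro hn
  haveI : Fact (Nat.Prime 11) := ⟨by norm_num⟩
  obtain ⟨P, d, hd, hP, hmem, hmul, hNC⟩ := sylow_data hG (p := 11) (m := 84) hn (by norm_num)
  rw [show (84 : ℕ).divisors.filter (fun d => d % 11 = 1 ∧ 5 ≤ d) = {12} by decide +kernel,
    Finset.mem_singleton] at hmem
  subst hmem
  rw [show Nat.card (normalizer ((P : Subgroup G) : Set G)) = 77 by omega] at hNC
  exact false_of_few_orbits hG P hP (by decide) (k := 1) (by norm_num) hd (r := 7) (by norm_num)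
    (by norm_num) (by omega)

theorem card_ne_840 (hG : ¬ IsMulCommutative G) : Nat.card G ≠ 840 := by
  intro hn
  haveI : Fact (Nat.Prime 7) := ⟨by norm_num⟩
  obtain ⟨P, d, hd, hP, hmem, hmul, hNC⟩ := sylow_data hG (p := 7) (m := 120) hn (by norm_num)
  rw [show (120 : ℕ).divisors.filter (fun d => d % 7 = 1 ∧ 5 ≤ d) = {8, 15, 120} by decide +kernel] at hmem
  simp only [Finset.mem_insert, Finset.mem_singleton] at hmem
  rcases hmem with rfl | rfl | rfl
  · rw [show Nat.card (normalizer ((P : Subgroup G) : Set G)) = 105 by omega] at hNC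
    exact false_of_few_orbits hG P hP (by decide) (k := 1) (by norm_num) hd (r := 5) (by norm_num)
      (by norm_num) (by omega)
  · rw [show Nat.card (normalizer ((P : Subgroup G) : Set G)) = 56 by omega] at hNC
    exact false_of_few_orbits hG P hP (by decide) (k := 2) le_rfl hd Nat.prime_two (by norm_num) (by omega)
  · have hN : Nat.card (normalizer ((P : Subgroup G) : Set G)) = 7 := by omega
    refine false_of_coprime hG P hP ?_
    rw [hN] at hNC ⊢
    exact (by norm_num : Nat.Coprime 7 (7 - 1)).dvd_of_dvd_mul_right hNC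

end Cfsg.Agent.SmallSimple.Below1092
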