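import Cfsg.Agent.Lib.SmallSimple.Below1092.Tools

/-!
# The orders 1008 and 1080

An element `t` of `C(P)` with `N(P) = N(⟨t⟩)` fixes a second Sylow subgroup; conjugating back
contradicts the uniqueness of `⟨t⟩` in `C(P)`, or bounds the fixed points of `t` too low.
-/

set_option autoImplicit false
set_option linter.style.haveILetI false
set_option linter.unusedSectionVars false

namespace Cfsg.Agent.SmallSimple.Below1092

open Subgroup MulAction

universe u

variable {G : Type u} [Group G] [Finite G] [IsSimpleGroup G]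

/-- An `r`-element fixes a second Sylow subgroup when `r ∣ n`. -/
theorem exists_second_fixed {p r : ℕ} [Fact p.Prime] [hr : Fact r.Prime] (P : Sylow p G) {t : G}
    (ht : t ^ r = 1) (htP : t • P = P) (hdvd : r ∣ Nat.card (Sylow p G)) :
    ∃ Q : Sylow p G, Q ≠ P ∧ t • Q = Q := by
  have hpg : IsPGroup r (zpowers t) := by
    obtain ⟨k, -, hk⟩ := (Nat.dvd_prime_pow hr.out).1
      (show orderOf t ∣ r ^ 1 by rw [pow_one]; exact orderOf_dvd_of_pow_eq_one ht)
    exact IsPGroup.of_card (n := k) (by rw [Nat.card_zpowers, hk])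
  have hmod := hpg.card_modEq_card_fixedPoints (Sylow p G)
  have hfix : ∀ Q : Sylow p G, t • Q = Q → Q ∈ fixedPoints (zpowers t) (Sylow p G) := fun Q hQ g => by
    have hst : t ∈ stabilizer G Q := hQ
    exact zpowers_le.2 hst g.2
  have h0 : r ∣ Nat.card (fixedPoints (zpowers t) (Sylow p G)) := (Nat.ModEq.dvd_iff hmod dvd_rfl).1 hdvd
  haveI : Nonempty (fixedPoints (zpowers t) (Sylow p G)) := ⟨⟨P, hfix P htP⟩⟩
  have h1 : 1 < Nat.card (fixedPoints (zpowers t) (Sylow p G)) :=
    lt_of_lt_of_le hr.out.one_lt (Nat.le_of_dvd Nat.card_pos h0)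
  rw [Finite.one_lt_card_iff_nontrivial] at h1
  obtain ⟨⟨Q, hQ⟩, hne⟩ := exists_ne (⟨P, hfix P htP⟩ : fixedPoints (zpowers t) (Sylow p G))
  exact ⟨Q, fun h => hne (Subtype.ext h), hQ ⟨t, mem_zpowers t⟩⟩

theorem centralizer_conj_mem {H : Subgroup G} {g x : G} (hg : g ∈ normalizer (H : Set G))
    (hx : x ∈ centralizer (H : Set G)) : g * x * g⁻¹ ∈ centralizer (H : Set G) := by
  rw [mem_centralizer_iff] at hx ⊢
  intro a ha
  have h1 : g⁻¹ * a * g ∈ H := by
    have := (mem_normalizer_iff.1 (inv_mem hg) a).1 ha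
    rwa [inv_inv] at this
  have h2 := hx _ h1
  calc a * (g * x * g⁻¹) = g * ((g⁻¹ * a * g) * x) * g⁻¹ := by group
    _ = g * (x * (g⁻¹ * a * g)) * g⁻¹ := by rw [h2]
    _ = g * x * g⁻¹ * a := by group

theorem centralizer_conj_mem_of_smul {p : ℕ} [Fact p.Prime] {P Q : Sylow p G} {g t : G} (hg : g • P = Q)
    (ht : t ∈ centralizer ((Q : Subgroup G) : Set G)) :
    g⁻¹ * t * g ∈ centralizer ((P : Subgroup G) : Set G) := by
  rw [mem_centralizer_iff] at ht ⊢
  intro a ha
  have hga : g * a * g⁻¹ ∈ (Q : Subgroup G) := by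
    rw [← hg, Sylow.coe_subgroup_smul]
    exact ⟨a, ha, rfl⟩
  have h := ht _ hga
  calc a * (g⁻¹ * t * g) = g⁻¹ * ((g * a * g⁻¹) * t) * g := by group
    _ = g⁻¹ * (t * (g * a * g⁻¹)) * g := by rw [h]
    _ = g⁻¹ * t * g * a := by group

theorem mem_normalizer_zpowers {g z : G} (h : g * z * g⁻¹ ∈ zpowers z) :
    g ∈ normalizer ((zpowers z : Subgroup G) : Set G) := by
  have hmap : (zpowers z).map (MulAut.conj g).toMonoidHom = zpowers z := by
    refine eq_of_le_of_card_ge ?_ ?_
    · rw [MonoidHom.map_zpowers, zpowers_le]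
      exact h
    · exact (card_map_of_injective (MulAut.conj g).injective).ge
  rw [mem_normalizer_iff]
  intro a
  constructor
  · intro ha
    rw [← hmap]
    exact ⟨a, ha, rfl⟩
  · intro ha
    rw [← hmap] at ha
    obtain ⟨b, hb, he⟩ := ha
    have : b = a := by simpa using he
    exact this ▸ hb

/-- An element of `N(Q) \ C(Q)` fixes at most one point in each regular orbit. -/
theorem mul_fixed_le {p : ℕ} [hp : Fact p.Prime] (Q : Sylow p G) (hQ : Nat.card (Q : Subgroup G) = p)
    {t : G} (htQ : t • Q = Q) (htC : t ∉ centralizer ((Q : Subgroup G) : Set G)) :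
    p * Nat.card {R : Sylow p G // R ≠ Q ∧ t • R = R} ≤ Nat.card {R : Sylow p G // R ≠ Q} := by
  have hmv : ∀ R : Sylow p G, R ≠ Q → ∀ a ∈ (Q : Subgroup G), a • R ≠ Q := fun R hR a ha h => hR (by
    rw [eq_inv_smul_iff.2 h]
    exact smul_sylow_eq_iff.2 (le_normalizer (inv_mem ha)))
  nth_rewrite 1 [← hQ]
  rw [← Nat.card_prod]
  refine Nat.card_le_card_of_injective
    (fun w : ↥(Q : Subgroup G) × {R : Sylow p G // R ≠ Q ∧ t • R = R} =>
      (⟨(w.1 : G) • w.2.1, hmv _ w.2.2.1 _ w.1.2⟩ : {R : Sylow p G // R ≠ Q})) ?_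
  rintro ⟨x, R, hR, htR⟩ ⟨y, R', hR', htR'⟩ h
  have h' : (x : G) • R = (y : G) • R' := congrArg Subtype.val h
  set z : G := (y : G)⁻¹ * x with hz
  have hzQ : z ∈ (Q : Subgroup G) := mul_mem (inv_mem y.2) x.2
  have hzR : z • R = R' := by rw [hz, mul_smul, h', inv_smul_smul]
  have htz : t * z * t⁻¹ ∈ (Q : Subgroup G) := (mem_normalizer_iff.1 (smul_sylow_eq_iff.1 htQ) z).1 hzQ
  have hfix : (z⁻¹ * (t * z * t⁻¹)) • R = R := by
    rw [mul_smul, mul_smul, mul_smul, inv_smul_eq_iff.2 htR.symm, hzR, htR', ← hzR, inv_smul_smul]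
  have hw := eq_one_of_smul_eq hQ hR (mul_mem (inv_mem hzQ) htz) hfix
  have hz1 : z = 1 := by
    by_contra hz1
    apply htC
    have hcomm : Commute t z := mul_inv_eq_iff_eq_mul.1 (inv_mul_eq_one.1 hw).symm
    have hgen : zpowers z = (Q : Subgroup G) := by
      refine eq_of_le_of_card_ge (zpowers_le.2 hzQ) ?_
      rw [Nat.card_zpowers, hQ]
      rcases hp.out.eq_one_or_self_of_dvd _ ((Subgroup.orderOf_dvd_natCard _ hzQ).trans hQ.dvd) with h | h
      · exact absurd (orderOf_eq_one_iff.1 h) hz1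
      · exact h.ge
    rw [← hgen, mem_centralizer_iff]
    intro a ha
    obtain ⟨j, rfl⟩ := mem_zpowers_iff.1 ha
    exact (hcomm.zpow_right j).eq.symm
  have hxy : x = y := Subtype.ext (inv_mul_eq_one.1 hz1).symm
  have hRR : R = R' := by rw [← hzR, hz1, one_smul]
  subst hxy hRR
  rfl

theorem card_ne_1008 (hG : ¬ IsMulCommutative G) : Nat.card G ≠ 1008 := by
  intro hn
  haveI : Fact (Nat.Prime 7) := ⟨by norm_num⟩
  haveI : Fact (Nat.Prime 2) := ⟨Nat.prime_two⟩
  obtain ⟨P, d, hd, hP, hmem, hmul, hNC⟩ := sylow_data hG (p := 7) (m := 144) hn (by norm_num)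
  rw [show (144 : ℕ).divisors.filter (fun d => d % 7 = 1 ∧ 5 ≤ d) = {8, 36} by decide +kernel] at hmem
  simp only [Finset.mem_insert, Finset.mem_singleton] at hmem
  rcases hmem with rfl | rfl
  · rw [show Nat.card (normalizer ((P : Subgroup G) : Set G)) = 126 by omega] at hNC
    exact false_of_few_orbits hG P hP (by decide) (k := 1) (by norm_num) hd Nat.prime_three (by norm_num)
      (by omega)
  set N := normalizer ((P : Subgroup G) : Set G) with hNdef
  set C := centralizer ((P : Subgroup G) : Set G) with hCdef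
  have hN : Nat.card N = 28 := by omega
  have hCN : C ≤ N := centralizer_le_normalizer _
  rw [hN] at hNC
  have hC : Nat.card C = 14 := by
    have h28 : Nat.card C ∣ 28 := hN ▸ card_dvd_of_le hCN
    have hne : Nat.card C ≠ 28 := fun h => false_of_coprime hG P hP (hN.trans h.symm).dvd
    obtain ⟨k, hk⟩ : 14 ∣ Nat.card C := by omega
    have := Nat.le_of_dvd (by norm_num) h28
    have hpos : 0 < Nat.card C := Nat.card_pos
    omega
  obtain ⟨t', ht'⟩ := exists_prime_orderOf_dvd_card' (G := C) 2 (by rw [hC]; norm_num)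
  set t : G := (t' : G) with htdef
  have ht : t ∈ C := t'.2
  have hto : orderOf t = 2 := (Subgroup.orderOf_coe t').trans ht'
  have ht2 : t ^ 2 = 1 := hto ▸ pow_orderOf_eq_one t
  -- `t` is the only involution of `C`
  have hPC : (P : Subgroup G) ≤ C := by
    haveI : IsMulCommutative (P : Subgroup G) := (isCyclic_of_prime_card hP).isMulCommutative
    exact le_centralizer _
  have hidx : ((P : Subgroup G).subgroupOf C).index = 2 := by
    have := Subgroup.card_mul_index ((P : Subgroup G).subgroupOf C)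
    rw [Nat.card_congr (subgroupOfEquivOfLe hPC).toEquiv, hP, hC] at this
    omega
  have hnotP : ∀ u : G, u ^ 2 = 1 → u ≠ 1 → u ∉ (P : Subgroup G) := fun u hu hu1 hmem => by
    have h7 := (Subgroup.orderOf_dvd_natCard _ hmem).trans hP.dvd
    rw [orderOf_eq_prime hu hu1] at h7
    norm_num at h7
  have huniq : ∀ u ∈ C, u ^ 2 = 1 → u ≠ 1 → u = t := by
    intro u hu hu2 hu1
    have ht1 : t ≠ 1 := fun h => by rw [h, orderOf_one] at hto; norm_num at hto
    have h := (mul_mem_iff_of_index_two hidx (a := ⟨u, hu⟩) (b := ⟨t, ht⟩)).2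
      (iff_of_false (by simpa [mem_subgroupOf] using hnotP u hu2 hu1)
        (by simpa [mem_subgroupOf] using hnotP t ht2 ht1))
    have hut : u * t ∈ (P : Subgroup G) := by simpa [mem_subgroupOf] using h
    have hcomm : Commute t (u * t) := (mem_centralizer_iff.1 ht _ hut).symm
    have hsq : (u * t) ^ 2 = 1 :=
      calc (u * t) ^ 2 = (u * t) ^ 2 * t ^ 2 := by rw [ht2, mul_one]
        _ = (u * t * t) ^ 2 := (hcomm.symm.mul_pow 2).symm
        _ = u ^ 2 := by rw [mul_assoc u t t, ← pow_two t, ht2, mul_one]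
        _ = 1 := hu2
    by_contra hne
    exact hnotP _ hsq (fun h1 => hne (by
      rw [eq_inv_of_mul_eq_one_left h1]
      exact (eq_inv_of_mul_eq_one_left (by rwa [← pow_two])).symm)) hut
  have ht1 : t ≠ 1 := fun h => by rw [h, orderOf_one] at hto; norm_num at hto
  have hconj_inv : ∀ g : G, g * t * g⁻¹ ∈ C → g * t * g⁻¹ = t := fun g h =>
    huniq _ h (by rw [conj_pow, ht2]; group) (fun h1 => ht1 (conj_eq_one_iff.1 h1))
  set H := centralizer ({t} : Set G) with hHdef
  have hNH : N ≤ H := fun g hg => by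
    rw [hHdef, mem_centralizer_singleton_iff]
    exact mul_inv_eq_iff_eq_mul.1 (hconj_inv g (centralizer_conj_mem hg ht))
  obtain ⟨j, hj36, hj7, hjidx, hjcard⟩ := card_eq_normalizer_of_le P hNH
  rw [hd] at hj36 hjidx
  have hj : j = 1 := by
    have : j ∈ (36 : ℕ).divisors.filter (fun d => d % 7 = 1) :=
      Finset.mem_filter.2 ⟨Nat.mem_divisors.2 ⟨hj36, by norm_num⟩, hj7⟩
    rw [show (36 : ℕ).divisors.filter (fun d => d % 7 = 1) = {1, 36} by decide +kernel] at this
    simp only [Finset.mem_insert, Finset.mem_singleton] at this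
    rcases this with h | h
    · exact h
    · exfalso
      exact centralizer_singleton_ne_top hG ht1 (index_eq_one.1 (show H.index = 1 by subst h; omega))
  have hHN : H = N := (eq_of_le_of_card_ge hNH (by rw [← hjcard, hj, one_mul])).symm
  -- the fixed points of `t`
  have htP : t • P = P := smul_sylow_eq_iff.2 (hCN ht)
  obtain ⟨Q, hQP, htQ⟩ := exists_second_fixed P ht2 htP (hd ▸ by norm_num)
  obtain ⟨g, hg⟩ := MulAction.exists_smul_eq G P Q
  by_cases htC : t ∈ centralizer ((Q : Subgroup G) : Set G)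
  · have h1 : g⁻¹ * t * g⁻¹⁻¹ ∈ C := by rw [inv_inv]; exact centralizer_conj_mem_of_smul hg htC
    have h2 : g⁻¹ ∈ H := mem_centralizer_singleton_iff.2 (mul_inv_eq_iff_eq_mul.1 (hconj_inv _ h1))
    rw [hHN] at h2
    exact hQP (by rw [← hg, smul_sylow_eq_iff.2 (show g ∈ N by simpa using inv_mem h2)])
  have hQc : Nat.card (Q : Subgroup G) = 7 := by
    rw [card_sylow_subgroup (k := 1) (m := 144) (by rw [hn]; norm_num) (by norm_num) Q, pow_one]
  have hle := mul_fixed_le Q hQc htQ htC
  have h35 : Nat.card {R : Sylow 7 G // R ≠ Q} = 35 := by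
    haveI := Fintype.ofFinite (Sylow 7 G)
    classical
    rw [Nat.card_eq_fintype_card, Fintype.card_subtype_compl, Fintype.card_subtype_eq,
      ← Nat.card_eq_fintype_card, hd]
  have hmv : ∀ x ∈ (P : Subgroup G), x • Q ≠ P := fun x hx h => hQP (by
    rw [eq_inv_smul_iff.2 h]
    exact smul_sylow_eq_iff.2 (le_normalizer (inv_mem hx)))
  -- `P` and the seven conjugates of `Q` under `P` are fixed, all but one different from `Q`
  have hfx : ∀ x : (P : Subgroup G), t • (x : G) • Q = (x : G) • Q := fun x => by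
    rw [← mul_smul, ← mem_centralizer_iff.1 ht _ x.2, mul_smul, htQ]
  have hne : ∀ x : {x : (P : Subgroup G) // x ≠ 1}, ((x.1 : G) • Q) ≠ Q := fun x h =>
    x.2 (Subtype.ext (eq_one_of_smul_eq hP hQP x.1.2 h))
  have h6 : Nat.card (Option {x : (P : Subgroup G) // x ≠ 1}) ≤
      Nat.card {R : Sylow 7 G // R ≠ Q ∧ t • R = R} := by
    refine Nat.card_le_card_of_injective (fun o => o.elim ⟨P, hQP.symm, htP⟩
      fun x => ⟨(x.1 : G) • Q, hne x, hfx x.1⟩) ?_
    rintro (_ | x) (_ | y) h
    · rfl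
    · exact absurd (congrArg Subtype.val h).symm (hmv _ y.1.2)
    · exact absurd (congrArg Subtype.val h) (hmv _ x.1.2)
    · have h' : (x.1 : G) • Q = (y.1 : G) • Q := congrArg Subtype.val h
      have := eq_one_of_smul_eq hP hQP (mul_mem (inv_mem y.1.2) x.1.2)
        (by rw [mul_smul, h', inv_smul_smul])
      exact congrArg some (Subtype.ext (Subtype.ext (inv_mul_eq_one.1 this).symm))
  have h7 : Nat.card (Option {x : (P : Subgroup G) // x ≠ 1}) = 7 := by
    classical
    haveI := Fintype.ofFinite (P : Subgroup G)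
    rw [Finite.card_option, Nat.card_eq_fintype_card, Fintype.card_subtype_compl, Fintype.card_subtype_eq,
      ← Nat.card_eq_fintype_card, hP]
  omega

theorem card_ne_1080 (hG : ¬ IsMulCommutative G) : Nat.card G ≠ 1080 := by
  intro hn
  haveI : Fact (Nat.Prime 5) := ⟨by norm_num⟩
  haveI : Fact (Nat.Prime 3) := ⟨Nat.prime_three⟩
  obtain ⟨P, d, hd, hP, hmem, hmul, hNC⟩ := sylow_data hG (p := 5) (m := 216) hn (by norm_num)
  rw [show (216 : ℕ).divisors.filter (fun d => d % 5 = 1 ∧ 5 ≤ d) = {6, 36, 216} by decide +kernel] at hmem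
  simp only [Finset.mem_insert, Finset.mem_singleton] at hmem
  rcases hmem with rfl | rfl | rfl
  · have := two_mul_dvd_factorial hG (p := 5) (by rw [hn]; norm_num)
    rw [hd, hn] at this
    norm_num [Nat.factorial] at this
  swap
  · have hN : Nat.card (normalizer ((P : Subgroup G) : Set G)) = 5 := by omega
    refine false_of_coprime hG P hP ?_
    rw [hN] at hNC ⊢
    exact (by norm_num : Nat.Coprime 5 (5 - 1)).dvd_of_dvd_mul_right hNC
  set N := normalizer ((P : Subgroup G) : Set G) with hNdef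
  set C := centralizer ((P : Subgroup G) : Set G) with hCdef
  have hN : Nat.card N = 30 := by omega
  have hCN : C ≤ N := centralizer_le_normalizer _
  rw [hN] at hNC
  have hC : Nat.card C = 15 := by
    have h30 : Nat.card C ∣ 30 := hN ▸ card_dvd_of_le hCN
    have hne : Nat.card C ≠ 30 := fun h => false_of_coprime hG P hP (hN.trans h.symm).dvd
    obtain ⟨k, hk⟩ : 15 ∣ Nat.card C := by omega
    have := Nat.le_of_dvd (by norm_num) h30
    have hpos : 0 < Nat.card C := Nat.card_pos
    omega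
  obtain ⟨S⟩ : Nonempty (Sylow 3 C) := inferInstance
  have hS : Nat.card (S : Subgroup C) = 3 := by
    rw [card_sylow_subgroup (k := 1) (m := 5) (by rw [hC]; norm_num) (by norm_num) S, pow_one]
  have hsub : Subsingleton (Sylow 3 C) := by
    have h5 : Nat.card (Sylow 3 C) ∣ 5 := by
      have h1 := S.card_dvd_index
      have h2 := Subgroup.card_mul_index (S : Subgroup C)
      rw [hS, hC] at h2
      rwa [show (S : Subgroup C).index = 5 by omega] at h1
    have hmod : Nat.card (Sylow 3 C) % 3 = 1 := card_sylow_modEq_one 3 C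
    rcases (Nat.dvd_prime (by norm_num)).1 h5 with h | h
    · exact (Nat.card_eq_one_iff_unique.1 h).1
    · omega
  haveI : IsCyclic (S : Subgroup C) := isCyclic_of_prime_card hS
  obtain ⟨z₀, hz₀⟩ := IsCyclic.exists_generator (α := (S : Subgroup C))
  set z : G := ((z₀ : C) : G) with hzdef
  have hzC : z ∈ C := (z₀ : C).2
  have hz1 : z ≠ 1 := by
    intro h
    have h1 : z₀ = 1 := Subtype.ext (Subtype.ext h)
    have : Nat.card (S : Subgroup C) = 1 := Nat.card_eq_one_iff_exists.2 ⟨z₀, fun a => by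
      obtain ⟨i, rfl⟩ := mem_zpowers_iff.1 (hz₀ a)
      simp [h1]⟩
    omega
  have hz3 : z ^ 3 = 1 := by
    have : z₀ ^ 3 = 1 := by
      have h := pow_card_eq_one' (x := z₀)
      rwa [hS] at h
    simpa [hzdef] using congrArg (fun a : (S : Subgroup C) => ((a : C) : G)) this
  have huniq : ∀ x ∈ C, x ^ 3 = 1 → x ∈ zpowers z := by
    intro x hx hx3
    have hpg : IsPGroup 3 (zpowers (⟨x, hx⟩ : C)) := by
      obtain ⟨k, -, hk⟩ := (Nat.dvd_prime_pow Nat.prime_three).1
        (show orderOf (⟨x, hx⟩ : C) ∣ 3 ^ 1 by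
          rw [pow_one]; exact orderOf_dvd_of_pow_eq_one (Subtype.ext hx3))
      exact IsPGroup.of_card (n := k) (by rw [Nat.card_zpowers, hk])
    obtain ⟨S', hS'⟩ := hpg.exists_le_sylow
    rw [Subsingleton.elim S' S] at hS'
    obtain ⟨i, hi⟩ := mem_zpowers_iff.1 (hz₀ ⟨⟨x, hx⟩, hS' (mem_zpowers _)⟩)
    refine mem_zpowers_iff.2 ⟨i, ?_⟩
    simpa [hzdef] using congrArg (fun a : (S : Subgroup C) => ((a : C) : G)) hi
  set H := normalizer ((zpowers z : Subgroup G) : Set G) with hHdef
  have hNH : N ≤ H := fun g hg => mem_normalizer_zpowers (huniq _ (centralizer_conj_mem hg hzC)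
    (by rw [conj_pow, hz3]; group))
  obtain ⟨j, hj36, hj5, hjidx, hjcard⟩ := card_eq_normalizer_of_le P hNH
  rw [hd] at hj36 hjidx
  have hj : j = 1 := by
    have : j ∈ (36 : ℕ).divisors.filter (fun d => d % 5 = 1) :=
      Finset.mem_filter.2 ⟨Nat.mem_divisors.2 ⟨hj36, by norm_num⟩, hj5⟩
    rw [show (36 : ℕ).divisors.filter (fun d => d % 5 = 1) = {1, 6, 36} by decide +kernel] at this
    simp only [Finset.mem_insert, Finset.mem_singleton] at this
    rcases this with h | h | h
    · exact h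
    · exfalso
      have hi : H.index = 6 := by subst h; omega
      have hne : H ≠ ⊤ := fun ht => by rw [ht, index_top] at hi; norm_num at hi
      have := card_dvd_factorial hne
      rw [hi, hn] at this
      norm_num [Nat.factorial] at this
    · exfalso
      have htop : H = ⊤ := index_eq_one.1 (by subst h; omega)
      rcases (normalizer_eq_top_iff.1 htop).eq_bot_or_eq_top with hb | ht
      · exact hz1 (zpowers_eq_bot.1 hb)
      · have hle := congrArg (fun K : Subgroup G => Nat.card K) ht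
        simp only [Nat.card_zpowers, card_top, hn] at hle
        have := Nat.le_of_dvd (by norm_num) (orderOf_dvd_of_pow_eq_one hz3)
        omega
  have hHN : H = N := (eq_of_le_of_card_ge hNH (by rw [← hjcard, hj, one_mul])).symm
  obtain ⟨Q, hQP, hzQ⟩ := exists_second_fixed P hz3 (smul_sylow_eq_iff.2 (hCN hzC))
    (hd ▸ by norm_num)
  obtain ⟨g, hg⟩ := MulAction.exists_smul_eq G P Q
  have hx3 : (g⁻¹ * z * g⁻¹⁻¹) ^ 3 = 1 := by rw [conj_pow, hz3]; group
  have hxN : g⁻¹ * z * g⁻¹⁻¹ ∈ N :=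
    smul_sylow_eq_iff.1 (by rw [inv_inv, mul_smul, mul_smul, hg, hzQ, ← hg, inv_smul_smul])
  have hidx : (C.subgroupOf N).index = 2 := by
    have := Subgroup.card_mul_index (C.subgroupOf N)
    rw [Nat.card_congr (subgroupOfEquivOfLe hCN).toEquiv, hC, hN] at this
    omega
  have hxC : g⁻¹ * z * g⁻¹⁻¹ ∈ C := by
    set x := g⁻¹ * z * g⁻¹⁻¹
    have hsq : x ^ 2 ∈ C := by
      simpa [mem_subgroupOf] using sq_mem_of_index_two hidx (⟨x, hxN⟩ : N)
    have h4 : x = x ^ 2 * x ^ 2 := by rw [← pow_add, show 2 + 2 = 3 + 1 from rfl, pow_succ, hx3, one_mul]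
    exact h4 ▸ mul_mem hsq hsq
  have hgH : g⁻¹ ∈ H := mem_normalizer_zpowers (huniq _ hxC hx3)
  rw [hHN] at hgH
  exact hQP (by rw [← hg, smul_sylow_eq_iff.2 (show g ∈ N by simpa using inv_mem hgH)])

end Cfsg.Agent.SmallSimple.Below1092
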