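import Cfsg.Agent.Lib.SmallSimple.Below1092.Tools
import Cfsg.Agent.Lib.SmallSimple.FiveThirtySix
import Cfsg.Agent.Lib.Char.RationalBound
import Cfsg.Agent.Lib.Char.Orthogonality
import Cfsg.Agent.Lib.Char.PRegular
import Cfsg.Agent.Lib.Clifford.CoprimeExtension
import Cfsg.Agent.Lib.SmallSimple.PRQPow

/-!
# No simple group of order 720

`N(P)` is a Frobenius group of order 20 for `P ∈ Syl₅`, so the characters are rational on `P`:
five of them are `±1` there, and the two orthogonality relations force one of degree `4`, on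
which an element of order `4` in `N(P)` has determinant `-1`.
-/

set_option autoImplicit false
set_option linter.style.haveILetI false
set_option linter.unusedSectionVars false

namespace Cfsg.Agent.SmallSimple.Below1092

open Cfsg Subgroup
open scoped ComplexConjugate

universe u

variable {G : Type u} [Group G] [Finite G] [IsSimpleGroup G]

/-- Four numbers among `6, -9, 16, -24` do not sum to `-1` with squares at most `719`. -/
def weight : Fin 4 → ℤ := ![6, -9, 16, -24]

theorem weight_check : ∀ a b c d : Fin 4, weight a + weight b + weight c + weight d = -1 →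
    ¬ weight a ^ 2 + weight b ^ 2 + weight c ^ 2 + weight d ^ 2 ≤ 719 := by
  decide +kernel

/-- A linear character of a non-abelian simple group is trivial. -/
theorem hom_eq_one (hG : ¬ IsMulCommutative G) (lam : G →* ℂ) (g : G) : lam g = 1 := by
  haveI := Fintype.ofFinite G
  set χ : IrrCharacter G := ⟨lam, Char.isIrrCharacter_of_monoidHom lam⟩
  have hd : Char.degree χ = 1 := by
    have h := Char.apply_one_eq_degree χ
    rw [show χ.1 1 = 1 from map_one lam] at h
    exact_mod_cast h.symm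
  have h := PRQPow.degree_one_eq_trivial (fun h => hG (isMulCommutative_iff.2 h)) χ hd
  exact congrFun (congrArg Subtype.val h) g

/-- The determinant obstruction in degree four. -/
theorem false_of_degree_four (hG : ¬ IsMulCommutative G) (χ : IrrCharacter G) (P : Subgroup G)
    (hd : χ.1 1 = 4) (hP : Nat.card P = 5) (hval : ∀ x ∈ P, x ≠ 1 → χ.1 x = -1) (u : G)
    (hu : ∀ x ∈ P, u * x * u⁻¹ = x ^ 2) (hu4 : u ^ 4 = 1) : False := by
  classical
  haveI := Fintype.ofFinite G
  haveI := Fintype.ofFinite P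
  obtain ⟨n, ρ, -, hρ⟩ := χ.2
  have hn : Module.finrank ℂ (Fin n → ℂ) = 4 := by
    have h := congrFun hρ 1
    rw [hd, Representation.char_one] at h
    exact_mod_cast h
  have htr : ∀ x, LinearMap.trace ℂ _ (ρ x) = χ.1 x := fun x => congrFun hρ x
  -- `∑_{a ∈ P} ρ a = 0`
  set T := ∑ a : P, ρ (a : G)
  have hT2 : T * T = (5 : ℂ) • T := by
    have h1 : ∀ a : P, ρ (a : G) * T = T := fun a => by
      rw [Finset.mul_sum]
      simp only [← map_mul, ← coe_mul]
      exact Equiv.sum_comp (Equiv.mulLeft a) fun b : P => ρ (b : G)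
    rw [Finset.sum_mul, Finset.sum_congr rfl fun a _ => h1 a, Finset.sum_const, Finset.card_univ,
      ← Nat.card_eq_fintype_card, hP, ← Nat.cast_smul_eq_nsmul ℂ]
    rfl
  have hTtr : LinearMap.trace ℂ _ T = 0 := by
    rw [map_sum, ← Finset.add_sum_erase _ _ (Finset.mem_univ (1 : P)),
      Finset.sum_congr rfl (g := fun _ : P => (-1 : ℂ)) fun a ha => by
        rw [htr, hval _ a.2 fun h => Finset.ne_of_mem_erase ha (Subtype.ext h)],
      Finset.sum_const, Finset.card_erase_of_mem (Finset.mem_univ _), Finset.card_univ,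
      ← Nat.card_eq_fintype_card, hP, htr, OneMemClass.coe_one, hd]
    norm_num
  have hT : T = 0 := by
    have hidem : IsIdempotentElem ((5⁻¹ : ℂ) • T) := by
      rw [IsIdempotentElem, smul_mul_smul_comm, hT2, smul_smul]
      norm_num
    have h := LinearMap.IsIdempotentElem.eq_zero_of_trace_eq_zero hidem (by rw [map_smul, hTtr, smul_zero])
    exact (smul_eq_zero.1 h).resolve_left (by norm_num)
  -- `χ` vanishes on elements acting without fixed points on `P`
  have hzero : ∀ (v : G) (m : ℕ), (∀ x ∈ P, v * x * v⁻¹ = x ^ m) → Nat.Coprime (m - 1) 5 → 1 ≤ m →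
      χ.1 v = 0 := by
    intro v m hv hm hm1
    have hinv : ∀ a : P, v⁻¹ * (a : G) * v ∈ P := fun a => by
      have hmap : ∀ x ∈ P, v * x * v⁻¹ ∈ P := fun x hx => hv x hx ▸ pow_mem hx m
      have hle : P.map (MulAut.conj v).toMonoidHom ≤ P := by
        rintro _ ⟨x, hx, rfl⟩
        exact hmap x hx
      have heq := eq_of_le_of_card_ge hle (card_map_of_injective (MulAut.conj v).injective).ge
      have ha : (a : G) ∈ P.map (MulAut.conj v).toMonoidHom := heq.symm ▸ a.2
      obtain ⟨x, hx, he⟩ := ha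
      rw [← he]
      simpa [mul_assoc] using hx
    let b : P → P := fun a => ⟨v⁻¹ * (a : G) * v * (a : G)⁻¹, mul_mem (hinv a) (inv_mem a.2)⟩
    have hb : Function.Injective b := by
      intro a c h
      haveI : Fact (Nat.Prime 5) := ⟨by norm_num⟩
      haveI : IsMulCommutative P := (isCyclic_of_prime_card hP).isMulCommutative
      have h' : v⁻¹ * (a : G) * v * (a : G)⁻¹ = v⁻¹ * (c : G) * v * (c : G)⁻¹ := congrArg Subtype.val h
      set y : G := (c : G)⁻¹ * a with hy
      have hyP : y ∈ P := mul_mem (inv_mem c.2) a.2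
      have hfix : v * y * v⁻¹ = y := by
        have h1 : v⁻¹ * y * v = y := by
          have h2 : v⁻¹ * (a : G) * v = v⁻¹ * (c : G) * v * (c : G)⁻¹ * a := by
            rw [← h', inv_mul_cancel_right]
          calc v⁻¹ * y * v = (v⁻¹ * (c : G) * v)⁻¹ * (v⁻¹ * (a : G) * v) := by rw [hy]; group
            _ = y := by rw [h2, hy]; group
        nth_rewrite 1 [← h1]
        group
      rw [hv y hyP] at hfix
      have hy1 : y ^ (m - 1) = 1 := mul_right_cancel (b := y) (by
        rw [← pow_succ, Nat.sub_add_cancel hm1, hfix, one_mul])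
      have hy5 : y ^ 5 = 1 := by
        have h := pow_card_eq_one' (x := (⟨y, hyP⟩ : P))
        rw [hP] at h
        exact congrArg Subtype.val h
      have := pow_gcd_eq_one.2 ⟨hy1, hy5⟩
      rw [hm, pow_one] at this
      exact Subtype.ext (inv_mul_eq_one.1 this).symm
    have hsum : ∑ a : P, χ.1 (v * (a : G)) = 0 := by
      simp only [← htr, map_mul, ← map_sum, ← Finset.mul_sum]
      rw [show (∑ a : P, ρ (a : G)) = 0 from hT, mul_zero, map_zero]
    rw [← Equiv.sum_comp (Equiv.ofBijective b hb.bijective_of_finite),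
      Finset.sum_congr rfl (g := fun _ : P => χ.1 v) fun a _ => ?_, Finset.sum_const, Finset.card_univ,
      ← Nat.card_eq_fintype_card, hP] at hsum
    · simpa using hsum
    · refine Eq.trans ?_ (CharInt.char_conj_apply (Char.irr_isCharacter χ) v (a : G))
      congr 1
      simp only [Equiv.ofBijective_apply, b]
      group
  have h1 := hzero u 2 hu (by norm_num) (by norm_num)
  have h2 := hzero (u ^ 2) 4 (fun x hx => by
    rw [show u ^ 2 * x * (u ^ 2)⁻¹ = u * (u * x * u⁻¹) * u⁻¹ by rw [pow_two]; group, hu x hx,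
      hu _ (pow_mem hx 2), ← pow_mul]) (by norm_num) (by norm_num)
  obtain ⟨b, μ, hμ, hb⟩ := CharInt.exists_eigenbasis (f := ρ u) (m := 4) (by norm_num)
    (by rw [← map_pow, hu4, map_one])
  have hdet : ∏ i, μ i = 1 := by
    rw [← CharInt.det_of_eigenbasis b hb, ← Clifford.detChar_eq χ ρ hρ u]
    exact hom_eq_one hG _ u
  have s1 : ∑ i, μ i = 0 := by rw [← CharInt.trace_of_eigenbasis b hb, htr, h1]
  have s2 : ∑ i, μ i ^ 2 = 0 := by
    rw [← CharInt.trace_of_eigenbasis b (CharInt.pow_apply_eigenvector b hb 2), ← map_pow, htr, h2]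
  clear hb b
  revert μ
  rw [hn]
  intro μ hμ hdet s1 s2
  simp only [Fin.sum_univ_four, Fin.prod_univ_four] at hdet s1 s2
  have : (1 : ℂ) = -1 := by
    linear_combination (-1 : ℂ) * hdet
      + (1 / 24 * (μ 0 + μ 1 + μ 2 + μ 3) ^ 3
        - 1 / 4 * (μ 0 + μ 1 + μ 2 + μ 3) * (μ 0 ^ 2 + μ 1 ^ 2 + μ 2 ^ 2 + μ 3 ^ 2)
        + 1 / 3 * (μ 0 ^ 3 + μ 1 ^ 3 + μ 2 ^ 3 + μ 3 ^ 3)) * s1
      + 1 / 8 * (μ 0 ^ 2 + μ 1 ^ 2 + μ 2 ^ 2 + μ 3 ^ 2) * s2
      - 1 / 4 * (hμ 0 + hμ 1 + hμ 2 + hμ 3)
  norm_num at this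

theorem frobenius_twenty_gen (hG : ¬ IsMulCommutative G) (P : Sylow 5 G) [Fact (Nat.Prime 5)]
    (hP : Nat.card (P : Subgroup G) = 5)
    (hN : Nat.card (normalizer ((P : Subgroup G) : Set G)) = 20)
    (hC : Nat.card (centralizer ((P : Subgroup G) : Set G)) = 5) :
    ∃ a u : G, orderOf a = 5 ∧ zpowers a = (P : Subgroup G) ∧ u ^ 4 = 1 ∧
      (∀ x ∈ (P : Subgroup G), u * x * u⁻¹ = x ^ 2) ∧ centralizer ({a} : Set G) = P := by
  haveI hcyc : IsCyclic (P : Subgroup G) := isCyclic_of_prime_card hP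
  haveI : IsMulCommutative (P : Subgroup G) := hcyc.isMulCommutative
  set f := (P : Subgroup G).normalizerMonoidHom
  have hker : Nat.card f.ker = 5 := by
    rw [Subgroup.normalizerMonoidHom_ker]
    exact (Nat.card_congr (subgroupOfEquivOfLe (centralizer_le_normalizer _)).toEquiv).trans hC
  have hrange : f.range = ⊤ := by
    apply eq_top_of_card_eq
    have h := Subgroup.card_mul_index f.ker
    rw [index_ker, hker, hN] at h
    rw [IsCyclic.card_mulAut, hP, Nat.totient_prime (by norm_num)]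
    omega
  have hcop : (Nat.card (P : Subgroup G)).Coprime 2 := by rw [hP]; norm_num
  let φ : MulAut (P : Subgroup G) :=
    { powCoprime hcop with
      map_mul' := fun x y => by
        have : Commute x y := Subtype.ext (mul_comm_of_mem_isMulCommutative _ x.2 y.2)
        exact this.mul_pow 2 }
  obtain ⟨⟨u, huN⟩, hu⟩ := MonoidHom.range_eq_top.1 hrange φ
  have hux : ∀ x ∈ (P : Subgroup G), u * x * u⁻¹ = x ^ 2 := by
    intro x hx
    have h := congrArg (fun ψ : MulAut (P : Subgroup G) => ((ψ ⟨x, hx⟩ : (P : Subgroup G)) : G)) hu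
    exact h
  obtain ⟨a', ha'⟩ := IsCyclic.exists_generator (α := (P : Subgroup G))
  set a : G := (a' : G)
  have hza : zpowers a = (P : Subgroup G) := by
    refine le_antisymm (zpowers_le.2 a'.2) fun x hx => ?_
    obtain ⟨i, hi⟩ := mem_zpowers_iff.1 (ha' ⟨x, hx⟩)
    exact mem_zpowers_iff.2 ⟨i, by simpa [a] using congrArg Subtype.val hi⟩
  have hoa : orderOf a = 5 := by rw [← Nat.card_zpowers, hza, hP]
  have hCP : centralizer ((P : Subgroup G) : Set G) = P :=
    (eq_of_le_of_card_ge (le_centralizer _) (by rw [hC, hP])).symm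
  refine ⟨a, u, hoa, hza, ?_, hux, ?_⟩
  · have hiter : ∀ (i : ℕ) (x : G), x ∈ (P : Subgroup G) → u ^ i * x * (u ^ i)⁻¹ = x ^ 2 ^ i := by
      intro i
      induction i with
      | zero => intro x _; simp
      | succ i ih =>
        intro x hx
        rw [pow_succ' u i, show u * u ^ i * x * (u * u ^ i)⁻¹ = u * (u ^ i * x * (u ^ i)⁻¹) * u⁻¹ by group,
          ih x hx, hux _ (pow_mem hx _), ← pow_mul, ← pow_succ]
    have hmem : u ^ 4 ∈ (P : Subgroup G) := by
      rw [← hCP, mem_centralizer_iff]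
      intro x hx
      have h5 : x ^ 5 = 1 := by
        have h := pow_card_eq_one' (x := (⟨x, hx⟩ : (P : Subgroup G)))
        rw [hP] at h
        exact congrArg Subtype.val h
      have h := hiter 4 x hx
      have e : x ^ (2 ^ 4) = x := by
        rw [show (2 : ℕ) ^ 4 = 5 * 3 + 1 by norm_num, pow_succ, pow_mul, h5, one_pow, one_mul]
      rw [e, mul_inv_eq_iff_eq_mul] at h
      exact h.symm
    have h := hux _ hmem
    rw [show u * u ^ 4 * u⁻¹ = u ^ 4 by group, pow_two] at h
    exact mul_eq_left.1 h.symm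
  · nth_rewrite 1 [← hCP]
    ext x
    rw [mem_centralizer_singleton_iff, mem_centralizer_iff]
    refine ⟨fun h y hy => ?_, fun h => (h a a'.2).symm⟩
    rw [← hza] at hy
    obtain ⟨i, rfl⟩ := mem_zpowers_iff.1 hy
    exact ((show Commute x a from h).zpow_right i).eq.symm

theorem false_of_frobenius_twenty (hG : ¬ IsMulCommutative G) (hn : Nat.card G = 720)
    (P : Sylow 5 G) [Fact (Nat.Prime 5)] (hP : Nat.card (P : Subgroup G) = 5)
    (hN : Nat.card (normalizer ((P : Subgroup G) : Set G)) = 20)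
    (hC : Nat.card (centralizer ((P : Subgroup G) : Set G)) = 5) : False := by
  classical
  haveI := Fintype.ofFinite G
  obtain ⟨a, u, hoa, hza, hu4, hux, hCa⟩ := frobenius_twenty_gen hG P hP hN hC
  have ha : a ∈ (P : Subgroup G) := hza ▸ mem_zpowers a
  have h5 : a ^ 5 = 1 := hoa ▸ pow_orderOf_eq_one a
  -- all non-trivial powers of `a` are conjugate
  have hconj : ∀ k : ℕ, ¬ 5 ∣ k → IsConj a (a ^ k) := by
    intro k hk
    rw [pow_eq_pow_mod k h5]
    have h2 : IsConj a (a ^ 2) := isConj_iff.2 ⟨u, hux a ha⟩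
    have h4 : IsConj (a ^ 2) (a ^ 4) := isConj_iff.2 ⟨u, by rw [hux _ (pow_mem ha 2), ← pow_mul]⟩
    have h3 : IsConj (a ^ 4) (a ^ 3) := isConj_iff.2 ⟨u, by
      rw [hux _ (pow_mem ha 4), ← pow_mul]
      exact pow_eq_pow_mod (4 * 2) h5⟩
    have := Nat.mod_lt k (show 5 > 0 by norm_num)
    have hk' : k % 5 ≠ 0 := fun h => hk (Nat.dvd_of_mod_eq_zero h)
    interval_cases hr : k % 5
    · omega
    · rw [pow_one]
    · exact h2
    · exact (h2.trans h4).trans h3
    · exact h2.trans h4
  have hclass : ∀ (χ : IrrCharacter G) (k : ℕ), ¬ 5 ∣ k → χ.1 (a ^ k) = χ.1 a := fun χ k hk =>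
    (CharInt.char_eq_of_isConj (Char.irr_isCharacter χ) (hconj k hk)).symm
  have hint : ∀ χ : IrrCharacter G, ∃ z : ℤ, χ.1 a = z := fun χ =>
    Char.exists_int_of_forall_pow (Char.irr_isCharacter χ) a fun k hk => hclass χ k fun h => by
      rw [hoa] at hk
      exact absurd (Nat.eq_one_of_dvd_coprimes hk h dvd_rfl) (by norm_num)
  choose z hz using hint
  have hsq : ∑ χ : IrrCharacter G, z χ ^ 2 = 5 := by
    have h := Char.sum_irr_mul_conj a a
    rw [if_pos (IsConj.refl a), hCa, hP] at h
    simp only [hz, map_intCast, ← pow_two] at h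
    exact_mod_cast h
  have hlin : ∑ χ : IrrCharacter G, (Char.degree χ : ℤ) * z χ = 0 := by
    have h := Char.sum_irr_degree_mul a
    rw [if_neg (fun h => by rw [h, orderOf_one] at hoa; norm_num at hoa)] at h
    simp only [hz, Char.apply_one_eq_degree] at h
    exact_mod_cast h
  have hcongr : ∀ χ : IrrCharacter G, (5 : ℤ) ∣ (Char.degree χ : ℤ) - z χ := by
    intro χ
    by_cases he : χ.1 a = χ.1 1
    · rw [hz, Char.apply_one_eq_degree] at he
      have : (z χ : ℤ) = Char.degree χ := by exact_mod_cast he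
      rw [this, sub_self]
      exact dvd_zero _
    · obtain ⟨j, -, -, hj⟩ := Char.exists_sub_eq_mul (Ψ := fun x : (P : Subgroup G) => χ.1 (x : G))
        (Fact.out : Nat.Prime 5) P.isPGroup'
        (Char.IsCharacter.restrict (Char.irr_isCharacter χ) (P : Subgroup G))
        (d := Char.degree χ) (by simpa using Char.apply_one_eq_degree χ) (g := ⟨a, ha⟩)
        (by simpa using he) (z := z χ) (hz χ)
      exact ⟨j, by rw [hj]; push_cast; ring⟩
  set t := Char.trivialChar G
  have ht1 : Char.degree t = 1 := by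
    have h := Char.apply_one_eq_degree t
    rw [show t.1 1 = 1 from rfl] at h
    exact_mod_cast h.symm
  have htz : z t = 1 := by
    have h := hz t
    rw [show t.1 a = 1 from rfl] at h
    exact_mod_cast h.symm
  set S := (Finset.univ.erase t).filter fun χ => z χ ≠ 0 with hS
  have hsqS : ∑ χ ∈ S, z χ ^ 2 = 4 := by
    rw [hS, Finset.sum_filter_of_ne fun χ _ h => ?_]
    swap
    · intro hz0; exact h (by simp only [hz0]; norm_num)
    have := Finset.add_sum_erase _ (fun χ : IrrCharacter G => z χ ^ 2) (Finset.mem_univ t)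
    simp only [htz, hsq] at this
    linarith
  have hlinS : ∑ χ ∈ S, (Char.degree χ : ℤ) * z χ = -1 := by
    rw [hS, Finset.sum_filter_of_ne fun χ _ h => ?_]
    swap
    · intro hz0; exact h (by simp only [hz0, mul_zero])
    have := Finset.add_sum_erase _ (fun χ : IrrCharacter G => (Char.degree χ : ℤ) * z χ) (Finset.mem_univ t)
    simp only [htz, ht1, hlin, Nat.cast_one, one_mul] at this
    linarith
  have hdsq : ∑ χ ∈ S, (Char.degree χ : ℤ) ^ 2 ≤ 719 := by
    have h := Char.sum_degree_sq (G := G)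
    rw [hn, ← Finset.add_sum_erase _ _ (Finset.mem_univ t), ht1] at h
    have h' : ∑ χ ∈ S, Char.degree χ ^ 2 ≤ ∑ χ ∈ Finset.univ.erase t, Char.degree χ ^ 2 :=
      Finset.sum_le_sum_of_subset (Finset.filter_subset _ _)
    have : ∑ χ ∈ S, Char.degree χ ^ 2 ≤ 719 := by omega
    exact_mod_cast this
  have hone : ∀ χ ∈ S, z χ = 1 ∨ z χ = -1 := by
    intro χ hχ
    have hz0 : z χ ≠ 0 := (Finset.mem_filter.1 hχ).2
    have hle : z χ ^ 2 ≤ 4 := hsqS ▸ Finset.single_le_sum (f := fun χ => z χ ^ 2) (fun _ _ => sq_nonneg _) hχ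
    have h1 : z χ ≤ 2 := by nlinarith
    have h2 : -2 ≤ z χ := by nlinarith
    by_contra hc
    have h4 : z χ ^ 2 = 4 := by
      interval_cases hzz : z χ <;> simp_all
    have hemp : S.erase χ = ∅ := by
      by_contra hne
      obtain ⟨ψ, hψ⟩ := Finset.nonempty_iff_ne_empty.2 hne
      have h := Finset.add_sum_erase S (fun χ => z χ ^ 2) hχ
      simp only [h4, hsqS] at h
      have hψ0 : z ψ ≠ 0 := (Finset.mem_filter.1 (Finset.mem_of_mem_erase hψ)).2
      have := Finset.single_le_sum (f := fun χ => z χ ^ 2) (fun _ _ => sq_nonneg _) hψ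
      have : 0 < z ψ ^ 2 := by positivity
      linarith
    rw [← Finset.add_sum_erase S _ hχ, hemp, Finset.sum_empty, add_zero] at hlinS
    have hev : (2 : ℤ) ∣ z χ := by interval_cases hzz : z χ <;> simp_all
    have h2dvd : (2 : ℤ) ∣ -1 := hlinS ▸ dvd_mul_of_dvd_right hev _
    norm_num at h2dvd
  have hcard : S.card = 4 := by
    rw [Finset.sum_congr rfl (g := fun _ => (1 : ℤ)) (fun χ hχ => by
      rcases hone χ hχ with h | h <;> rw [h] <;> norm_num)] at hsqS
    simp only [Finset.sum_const, nsmul_eq_mul, mul_one] at hsqS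
    exact_mod_cast hsqS
  have hw : ∀ χ ∈ S, ∃ i : Fin 4, (Char.degree χ : ℤ) * z χ = weight i := by
    intro χ hχ
    have hne : χ ≠ t := Finset.ne_of_mem_erase (Finset.mem_of_mem_filter _ hχ)
    have hd1 : Char.degree χ ≠ 1 := fun h =>
      hne (PRQPow.degree_one_eq_trivial (fun h => hG (isMulCommutative_iff.2 h)) χ h)
    have hdn : Char.degree χ ∣ 720 := hn ▸ Char.degree_dvd_natCard χ
    have hd26 : Char.degree χ ≤ 26 := by
      have h : (Char.degree χ : ℤ) ^ 2 ≤ 719 := (Finset.single_le_sum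
        (f := fun χ => (Char.degree χ : ℤ) ^ 2) (fun _ _ => sq_nonneg _) hχ).trans hdsq
      nlinarith
    have hc := hcongr χ
    have hmem : Char.degree χ ∈ (720 : ℕ).divisors.filter
        (fun d => d ≤ 26 ∧ d ≠ 1 ∧ (d % 5 = 1 ∨ d % 5 = 4)) :=
      Finset.mem_filter.2 ⟨Nat.mem_divisors.2 ⟨hdn, by norm_num⟩, hd26, hd1, by
        rcases hone χ hχ with h | h <;> rw [h] at hc <;> omega⟩
    rw [show (720 : ℕ).divisors.filter (fun d => d ≤ 26 ∧ d ≠ 1 ∧ (d % 5 = 1 ∨ d % 5 = 4)) =
      {4, 6, 9, 16, 24} by decide +kernel] at hmem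
    simp only [Finset.mem_insert, Finset.mem_singleton] at hmem
    rcases hone χ hχ with h | h <;> rcases hmem with e | e | e | e | e <;> rw [h, e] at hc ⊢ <;>
      first
      | (exfalso; omega)
      | exact ⟨0, rfl⟩
      | exact ⟨1, rfl⟩
      | exact ⟨2, rfl⟩
      | exact ⟨3, rfl⟩
      | skip
    -- degree `4`, value `-1`
    refine absurd ?_ (fun h' : False => h')
    refine false_of_degree_four hG χ (P : Subgroup G) (by rw [Char.apply_one_eq_degree, e]; norm_num) hP
      (fun x hx hx1 => ?_) u hux hu4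
    obtain ⟨k, hk5, rfl⟩ : ∃ k < 5, x = a ^ k := by
      obtain ⟨i, rfl⟩ := mem_zpowers_iff.1 (hza ▸ hx : x ∈ zpowers a)
      refine ⟨(i % 5).toNat, by omega, ?_⟩
      rw [← zpow_natCast, Int.toNat_of_nonneg (Int.emod_nonneg _ (by norm_num))]
      have := zpow_mod_orderOf a i
      rw [hoa] at this
      exact_mod_cast this.symm
    have hk : ¬ 5 ∣ k := fun h' => by
      have hk0 : k = 0 := by omega
      exact hx1 (by rw [hk0, pow_zero])
    rw [hclass χ k hk, hz, h]
    norm_num
  choose i hi using hw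
  let e := (Finset.equivFinOfCardEq hcard).symm
  have hsum : ∀ F : IrrCharacter G → ℤ, ∑ χ ∈ S, F χ = F (e 0).1 + F (e 1).1 + F (e 2).1 + F (e 3).1 :=
    fun F => by rw [← Finset.sum_coe_sort S F, ← Equiv.sum_comp e, Fin.sum_univ_four]
  rw [hsum] at hlinS hdsq
  refine weight_check (i _ (e 0).2) (i _ (e 1).2) (i _ (e 2).2) (i _ (e 3).2) ?_ ?_
  · rw [← hi, ← hi, ← hi, ← hi]
    exact hlinS
  · rw [← hi, ← hi, ← hi, ← hi]
    refine le_trans (le_of_eq ?_) hdsq
    simp only [mul_pow]
    have h1 : ∀ j : Fin 4, z (e j).1 ^ 2 = 1 := fun j => by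
      rcases hone _ (e j).2 with h | h <;> rw [h] <;> norm_num
    simp only [h1, mul_one]

theorem card_ne_720 (hG : ¬ IsMulCommutative G) : Nat.card G ≠ 720 := by
  intro hn
  haveI : Fact (Nat.Prime 5) := ⟨by norm_num⟩
  haveI : Fact (Nat.Prime 3) := ⟨Nat.prime_three⟩
  obtain ⟨P, d, hd, hP, hmem, hmul, hNC⟩ := sylow_data hG (p := 5) (m := 144) hn (by norm_num)
  rw [show (144 : ℕ).divisors.filter (fun d => d % 5 = 1 ∧ 5 ≤ d) = {6, 16, 36} by decide +kernel] at hmem
  simp only [Finset.mem_insert, Finset.mem_singleton] at hmem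
  rcases hmem with rfl | rfl | rfl
  · have := two_mul_dvd_factorial hG (p := 5) (by rw [hn]; norm_num)
    rw [hd, hn] at this
    norm_num [Nat.factorial] at this
  · rw [show Nat.card (normalizer ((P : Subgroup G) : Set G)) = 45 by omega] at hNC
    refine not_dvd_centralizer hG (by decide) (by rw [hn]; norm_num) P hP (k := 3) (by rw [hd])
      (r := 3) (n := 2) (by norm_num) ?_ (by omega)
    rw [nat_card_alternatingGroup]
    norm_num [Nat.factorial]
  · have hN : Nat.card (normalizer ((P : Subgroup G) : Set G)) = 20 := by omega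
    by_cases h2 : 2 ∣ Nat.card (centralizer ((P : Subgroup G) : Set G))
    · exact false_of_thirtysix hG P hP hd h2
    refine false_of_frobenius_twenty hG hn P hP hN ?_
    have h20 : Nat.card (centralizer ((P : Subgroup G) : Set G)) ∣ 20 :=
      hN ▸ card_dvd_of_le (centralizer_le_normalizer _)
    rw [hN] at hNC
    have := Nat.le_of_dvd (by norm_num) h20
    interval_cases hc : Nat.card (centralizer ((P : Subgroup G) : Set G)) <;> omega

end Cfsg.Agent.SmallSimple.Below1092
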