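import Cfsg.Agent.Lib.SmallSimple.Criteria
import Cfsg.Agent.Lib.SmallSimple.PRQPow
import Cfsg.Agent.Lib.SmallCofactor.Klein
import Cfsg.Agent.S0499

/-!
# The orders in `[101, 1092]` left by the standard criteria
-/

set_option autoImplicit false
set_option linter.style.haveILetI false
set_option linter.unusedSectionVars false

namespace Cfsg.Agent.SmallSimple.Below1092

universe u

/-- The primes up to 31. -/
def smallPrimes : List ℕ := [2, 3, 5, 7, 11, 13, 17, 19, 23, 29, 31]

theorem prime_of_mem {q : ℕ} (h : q ∈ smallPrimes) : q.Prime := by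
  simp only [smallPrimes, List.mem_cons, List.not_mem_nil, or_false] at h
  rcases h with rfl | rfl | rfl | rfl | rfl | rfl | rfl | rfl | rfl | rfl | rfl <;> norm_num

/-- A bounded primality test. -/
def isP (x : ℕ) : Bool :=
  decide (2 ≤ x) && decide (x < 1369) && smallPrimes.all fun p => decide (p = x) || decide (x % p ≠ 0)

theorem mem_or_lt {p : ℕ} (hp : p.Prime) : p ∈ smallPrimes ∨ 37 ≤ p := by
  by_contra h
  push Not at h
  obtain ⟨h1, h2⟩ := h
  interval_cases p <;> first | exact h1 (by decide) | exact absurd hp (by norm_num)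

theorem prime_of_isP {x : ℕ} (h : isP x = true) : x.Prime := by
  simp only [isP, Bool.and_eq_true, decide_eq_true_eq, List.all_eq_true, Bool.or_eq_true] at h
  obtain ⟨⟨h2, hlt⟩, hall⟩ := h
  by_contra hnp
  have hsq := Nat.minFac_sq_le_self (by omega) hnp
  have hp := Nat.minFac_prime (n := x) (by omega)
  have hd := Nat.minFac_dvd x
  rcases mem_or_lt hp with hm | hm
  · rcases hall _ hm with h | h
    · exact hnp (h ▸ hp)
    · exact h (Nat.mod_eq_zero_of_dvd hd)
  · nlinarith

/-- Divide out `p`, at most ten times. -/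
def strip (p : ℕ) : ℕ → ℕ → ℕ × ℕ
  | 0, n => (0, n)
  | k + 1, n => if n % p = 0 then ((strip p k (n / p)).1 + 1, (strip p k (n / p)).2) else (0, n)

theorem strip_spec (p k : ℕ) : ∀ n, n = p ^ (strip p k n).1 * (strip p k n).2 := by
  induction k with
  | zero => intro n; simp [strip]
  | succ k ih =>
    intro n
    by_cases h : n % p = 0
    · simp only [strip, h, if_true]
      rw [pow_succ, mul_right_comm, ← ih (n / p)]
      exact (Nat.div_mul_cancel (Nat.dvd_of_mod_eq_zero h)).symm
    · simp [strip, h]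

/-- At most two primes, one of them small. -/
def twoP (n : ℕ) : Bool :=
  smallPrimes.any fun q => decide (n % q = 0) &&
    (decide ((strip q 10 n).2 = 1) || isP (strip q 10 n).2 ||
      smallPrimes.any fun r => decide ((strip r 10 (strip q 10 n).2).2 = 1))

/-- Even, and none of `12`, `16`, `56` divides. -/
def evenB (n : ℕ) : Bool := decide (n % 2 = 0 ∧ n % 12 ≠ 0 ∧ n % 16 ≠ 0 ∧ n % 56 ≠ 0)

/-- The smallest prime has exponent one. -/
def minOne (n : ℕ) : Bool :=
  smallPrimes.any fun q => decide (n % q = 0 ∧ 1 < n / q ∧ n / q % q ≠ 0) &&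
    smallPrimes.all fun s => decide (q ≤ s ∨ n % s ≠ 0)

/-- Order `p r q ^ b`. -/
def prq (n : ℕ) : Bool :=
  smallPrimes.any fun q => smallPrimes.any fun r =>
    decide (n % q = 0 ∧ (strip q 10 n).2 % r = 0 ∧ r ≠ q ∧ r < (strip q 10 n).2 / r ∧
      (strip q 10 n).2 / r ≠ q) && isP ((strip q 10 n).2 / r)

/-- Order `4 p ^ a q ^ b`. -/
def four (n : ℕ) : Bool :=
  smallPrimes.any fun p => decide (n % 4 = 0 ∧ p ≠ 2 ∧ n / 4 % p = 0) &&
    (smallPrimes.any fun q => decide (q ≠ 2 ∧ q ≠ p ∧ (strip q 10 (strip p 10 (n / 4)).2).2 = 1))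

/-- The orders not settled by the criteria above. -/
def rest : List ℕ :=
  [168, 360, 420, 504, 600, 660, 720, 780, 792, 840, 924, 936, 1008, 1020, 1080, 1092]

theorem sweep : ∀ i ∈ List.range 992,
    (twoP (101 + i) || isP (101 + i) || evenB (101 + i) || minOne (101 + i) || prq (101 + i) ||
      four (101 + i) || decide (101 + i ∈ rest)) = true := by
  decide +kernel

variable {G : Type u} [Group G] [Finite G] [IsSimpleGroup G]

theorem mem_rest (hG : ¬ IsMulCommutative G) (h1 : 100 < Nat.card G) (h : Nat.card G ≤ 1092) :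
    Nat.card G ∈ rest := by
  have hns : ¬ (Nat.card G).Prime := fun hp => hG (by
    haveI := Fact.mk hp
    haveI : IsCyclic G := isCyclic_of_prime_card rfl
    exact IsCyclic.isMulCommutative)
  have htwo : ∀ {q r a b : ℕ}, q.Prime → r.Prime → Nat.card G ≠ q ^ a * r ^ b :=
    fun hq hr he => false_of_two_primes hq hr he hns
  have hs := sweep (Nat.card G - 101) (List.mem_range.2 (by omega))
  rw [show 101 + (Nat.card G - 101) = Nat.card G by omega] at hs
  simp only [Bool.or_eq_true, decide_eq_true_eq] at hs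
  rcases hs with (((((hs | hs) | hs) | hs) | hs) | hs) | hs
  · exfalso
    simp only [twoP, List.any_eq_true, Bool.and_eq_true, Bool.or_eq_true, decide_eq_true_eq] at hs
    obtain ⟨q, hq, -, (hs | hs) | ⟨r, hr, hs⟩⟩ := hs
    · have hspec := strip_spec q 10 (Nat.card G)
      rw [hs] at hspec
      exact htwo (q := q) (a := (strip q 10 (Nat.card G)).1) (prime_of_mem hq) Nat.prime_two (b := 0)
        (by rw [pow_zero]; exact hspec)
    · exact htwo (q := q) (a := (strip q 10 (Nat.card G)).1) (prime_of_mem hq) (prime_of_isP hs) (b := 1)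
        (by rw [pow_one]; exact strip_spec q 10 _)
    · have hspec := strip_spec q 10 (Nat.card G)
      have h2 := strip_spec r 10 (strip q 10 (Nat.card G)).2
      rw [hs, mul_one] at h2
      rw [h2] at hspec
      exact htwo (prime_of_mem hq) (prime_of_mem hr) hspec
  · exact absurd (prime_of_isP hs) hns
  · exfalso
    simp only [evenB, decide_eq_true_eq] at hs
    rcases Cfsg.Agent.S0499.result hG (Nat.even_iff.2 hs.1) with h' | h' | h' <;>
      have := Nat.mod_eq_zero_of_dvd h' <;> omega
  · exfalso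
    simp only [minOne, List.any_eq_true, Bool.and_eq_true, decide_eq_true_eq, List.all_eq_true] at hs
    obtain ⟨q, hq, ⟨hd, h1', hm⟩, hall⟩ := hs
    have hmul := (Nat.mul_div_cancel' (Nat.dvd_of_mod_eq_zero hd)).symm
    refine false_of_min_exponent_one (prime_of_mem hq) hmul h1' fun r hr hrd => ?_
    have hne : r ≠ q := by
      rintro rfl
      exact hm (Nat.mod_eq_zero_of_dvd hrd)
    have hrG : r ∣ Nat.card G := hmul ▸ dvd_mul_of_dvd_right hrd q
    rcases mem_or_lt hr with hmem | hbig
    · rcases hall r hmem with h' | h'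
      · omega
      · exact absurd (Nat.mod_eq_zero_of_dvd hrG) h'
    · simp only [smallPrimes, List.mem_cons, List.not_mem_nil, or_false] at hq
      omega
  · simp only [prq, List.any_eq_true, Bool.and_eq_true, decide_eq_true_eq] at hs
    obtain ⟨q, hq, r, hr, ⟨-, hd, hrq, hlt, hpq⟩, hp⟩ := hs
    have hspec := strip_spec q 10 (Nat.card G)
    set s := (strip q 10 (Nat.card G)).2
    have hcard : Nat.card G = s / r * r * q ^ (strip q 10 (Nat.card G)).1 := by
      rw [Nat.div_mul_cancel (Nat.dvd_of_mod_eq_zero hd), mul_comm]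
      exact hspec
    have hnc : ¬ IsCyclic G := fun hc => hG IsCyclic.isMulCommutative
    rcases PRQPow.card_eq hnc (prime_of_isP hp) (prime_of_mem hr) (prime_of_mem hq) hlt hpq hrq hcard
      with ⟨-, h'⟩ | ⟨-, h'⟩
    · omega
    · rw [h']; decide
  · exfalso
    haveI := Fintype.ofFinite G
    simp only [four, List.any_eq_true, Bool.and_eq_true, decide_eq_true_eq] at hs
    obtain ⟨p, hp, ⟨h4, hp2, -⟩, q, hq, hq2, hqp, hs⟩ := hs
    have hspec := strip_spec p 10 (Nat.card G / 4)
    have h2 := strip_spec q 10 (strip p 10 (Nat.card G / 4)).2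
    rw [hs, mul_one] at h2
    rw [h2] at hspec
    have hcard := Nat.mul_div_cancel' (Nat.dvd_of_mod_eq_zero h4)
    rw [hspec, ← mul_assoc] at hcard
    have := SmallCofactor.card_eq_sixty_of_four hG (prime_of_mem hp) (prime_of_mem hq) hp2 hq2 hqp.symm
      hcard.symm
    omega
  · exact hs

end Cfsg.Agent.SmallSimple.Below1092
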