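import Cfsg.Agent.Lib.SmallSimple.CentralizerOrbits
import Cfsg.Agent.Lib.SmallSimple.Low
import Cfsg.Agent.Lib.SmallSimple.Tools
import Cfsg.Agent.Lib.Transfer.AbelianSylow
import Cfsg.Agent.Lib.Transfer.Frobenius

/-!
# Sylow counting tools for the orders up to 1092
-/

set_option autoImplicit false
set_option linter.style.haveILetI false
set_option linter.unusedSectionVars false

namespace Cfsg.Agent.SmallSimple.Below1092

open Subgroup

universe u

variable {G : Type u} [Group G] [Finite G] [IsSimpleGroup G]

/-- The possible Sylow counts and normaliser data for a prime of exponent one. -/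
theorem sylow_data (hG : ¬ IsMulCommutative G) {p : ℕ} [hp : Fact p.Prime] {m : ℕ}
    (hn : Nat.card G = p * m) (hm : ¬ p ∣ m) :
    ∃ (P : Sylow p G) (d : ℕ), Nat.card (Sylow p G) = d ∧ Nat.card (P : Subgroup G) = p ∧
      d ∈ m.divisors.filter (fun d => d % p = 1 ∧ 5 ≤ d) ∧
      d * Nat.card (normalizer ((P : Subgroup G) : Set G)) = p * m ∧
      Nat.card (normalizer ((P : Subgroup G) : Set G)) ∣
        Nat.card (centralizer ((P : Subgroup G) : Set G)) * (p - 1) := by
  obtain ⟨P⟩ : Nonempty (Sylow p G) := inferInstance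
  have hP : Nat.card (P : Subgroup G) = p := by
    rw [card_sylow_subgroup (k := 1) (m := m) (by rw [pow_one, hn]) hm P, pow_one]
  have hmul := (card_sylow_mul_card_normalizer P).trans hn
  refine ⟨P, _, rfl, hP, Finset.mem_filter.2 ⟨Nat.mem_divisors.2 ⟨?_, fun h => hm (h ▸ dvd_zero p)⟩,
    Eq.trans (card_sylow_modEq_one p G) (Nat.mod_eq_of_lt hp.out.one_lt),
    five_le_card_sylow hG (hn ▸ dvd_mul_right p m)⟩, hmul, card_normalizer_dvd P hP⟩
  have h1 := P.card_dvd_index
  have h2 := Subgroup.card_mul_index (P : Subgroup G)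
  rw [hP, hn] at h2
  rwa [Nat.eq_of_mul_eq_mul_left hp.out.pos h2] at h1

/-- `|N(P)|` cannot be prime to `p - 1`. -/
theorem false_of_coprime (hG : ¬ IsMulCommutative G) {p : ℕ} [hp : Fact p.Prime] (P : Sylow p G)
    (hP : Nat.card (P : Subgroup G) = p)
    (hle : Nat.card (normalizer ((P : Subgroup G) : Set G)) ∣
      Nat.card (centralizer ((P : Subgroup G) : Set G))) : False := by
  haveI : IsMulCommutative (P : Subgroup G) := (isCyclic_of_prime_card hP).isMulCommutative
  refine not_hasNormalPComplement hG (hP ▸ card_subgroup_dvd_card _) (p := p) ?_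
  exact Transfer.hasNormalPComplement_of_normalizer_le_centralizer P
    (eq_of_le_of_card_ge (centralizer_le_normalizer _) (Nat.le_of_dvd Nat.card_pos hle)).ge

/-- With at most two non-trivial orbits no other prime divides the centraliser. -/
theorem false_of_few_orbits (hG : ¬ IsMulCommutative G) {p : ℕ} [hp : Fact p.Prime] (P : Sylow p G)
    (hP : Nat.card (P : Subgroup G) = p) (hp2 : Odd p) {k r : ℕ} (hk : k ≤ 2)
    (hn : Nat.card (Sylow p G) = 1 + k * p) (hr : r.Prime) (hrp : r ≠ p)
    (hd : r ∣ Nat.card (centralizer ((P : Subgroup G) : Set G))) : False := by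
  haveI := Fact.mk hr
  refine not_dvd_centralizer hG hp2 (hP ▸ card_subgroup_dvd_card _) P hP hn (r := r) (n := 1) hrp ?_
    (by rwa [pow_one])
  rw [pow_one]
  have h1 : Nat.card (alternatingGroup (Fin k)) = 1 := by
    interval_cases k <;> rw [Nat.card_eq_fintype_card] <;> decide
  rw [h1]
  exact hr.not_dvd_one

/-- `2 |G|` divides `d!` for the number `d` of Sylow subgroups. -/
theorem two_mul_dvd_factorial (hG : ¬ IsMulCommutative G) {p : ℕ} [hp : Fact p.Prime]
    (hdvd : p ∣ Nat.card G) : 2 * Nat.card G ∣ (Nat.card (Sylow p G)).factorial := by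
  classical
  obtain ⟨P⟩ : Nonempty (Sylow p G) := inferInstance
  have h5 := five_le_card_sylow hG hdvd
  set H := normalizer ((P : Subgroup G) : Set G)
  have hidx : H.index = Nat.card (Sylow p G) := (Sylow.card_eq_index_normalizer P).symm
  have hH : H ≠ ⊤ := fun h => by rw [h, index_top] at hidx; omega
  haveI := Fintype.ofFinite (G ⧸ H)
  let f : G →* alternatingGroup (G ⧸ H) := (MulAction.toPermHom G (G ⧸ H)).codRestrict _
    (mem_alternating_of_simple hG _)
  have hf : Function.Injective f := fun a b h => toPermHom_injective hH (congrArg Subtype.val h)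
  haveI : Nontrivial (G ⧸ H) := Finite.one_lt_card_iff_nontrivial.1 (by
    rw [← Subgroup.index_eq_card, hidx]; omega)
  have h2 := Subgroup.card_dvd_of_injective f hf
  have h3 := two_mul_card_alternatingGroup (α := G ⧸ H)
  rw [← Nat.card_eq_fintype_card, ← Nat.card_eq_fintype_card, Nat.card_perm, ← Subgroup.index_eq_card,
    hidx] at h3
  rw [← h3]
  exact mul_dvd_mul_left 2 h2

/-- If `N(P) ≤ H` and the admissible indices are only trivial, then `H = N(P)`. -/
theorem card_eq_normalizer_of_le {p : ℕ} [hp : Fact p.Prime] (P : Sylow p G)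
    {H : Subgroup G} (hle : normalizer ((P : Subgroup G) : Set G) ≤ H) :
    ∃ j, j ∣ Nat.card (Sylow p G) ∧ j % p = 1 ∧ j * H.index = Nat.card (Sylow p G) ∧
      j * Nat.card (normalizer ((P : Subgroup G) : Set G)) = Nat.card H := by
  set N := normalizer ((P : Subgroup G) : Set G) with hN
  have hPH : (P : Subgroup G) ≤ H := le_normalizer.trans hle
  set P' : Sylow p H := P.subtype hPH
  have hcard : Nat.card (normalizer ((P' : Subgroup H) : Set H)) = Nat.card N := by
    have h : normalizer ((P' : Subgroup H) : Set H) = N.subgroupOf H := by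
      ext x
      simp only [mem_subgroupOf, hN, mem_normalizer_iff, P', Sylow.coe_subtype]
      constructor
      · intro hx y
        constructor
        · intro hy
          simpa using (hx ⟨y, hPH hy⟩).1 hy
        · intro hy
          have hyH : y ∈ H := by
            have := H.mul_mem (H.mul_mem (inv_mem x.2) (hPH hy)) x.2
            simpa [mul_assoc] using this
          exact (hx ⟨y, hyH⟩).2 (by simpa using hy)
      · intro hx y
        simpa using hx y
    rw [h]
    exact Nat.card_congr (subgroupOfEquivOfLe hle).toEquiv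
  have hmul := card_sylow_mul_card_normalizer P'
  rw [hcard] at hmul
  have hidx : Nat.card (Sylow p H) * H.index = Nat.card (Sylow p G) := by
    have h1 := card_sylow_mul_card_normalizer P
    rw [← Subgroup.card_mul_index H, ← hmul] at h1
    exact Nat.eq_of_mul_eq_mul_right (Nat.card_pos (α := N)) (by rw [h1]; ring)
  exact ⟨_, ⟨_, hidx.symm⟩, Eq.trans (card_sylow_modEq_one p H) (Nat.mod_eq_of_lt hp.out.one_lt),
    hidx, hmul⟩

end Cfsg.Agent.SmallSimple.Below1092
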